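import Groth.Prelude.Def_ega3
import Mathlib.Algebra.Category.ModuleCat.Products
import Mathlib.Algebra.Category.Grp.Biproducts
import Mathlib.Algebra.Homology.ShortComplex.ModuleCat
import Mathlib.LinearAlgebra.TensorProduct.Basis

/-!
# Homology of `P ⊗ M` for a degreewise finite free complex commutes with products
-/

set_option autoImplicit false
set_option backward.isDefEq.respectTransparency false
set_option backward.isDefEq.respectTransparency.types false

universe u

open CategoryTheory CategoryTheory.Limits TensorProduct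

noncomputable section

namespace Groth.L15.ProdH

variable {A : Type u} [CommRing A]

theorem bijective_piTensor {ι : Type u} (P : Type u) [AddCommGroup P] [Module A P] [Module.Free A P]
    [Module.Finite A P] (M : ι → Type u) [∀ j, AddCommGroup (M j)] [∀ j, Module A (M j)] :
    Function.Bijective (fun (x : P ⊗[A] (∀ j, M j)) (j : ι) =>
      LinearMap.lTensor P (LinearMap.proj j : (∀ j, M j) →ₗ[A] M j) x) := by
  classical
  let b := Module.Free.chooseBasis A P
  let e := TensorProduct.equivFinsuppOfBasisLeft (N := ∀ j, M j) b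
  let ej := fun j => TensorProduct.equivFinsuppOfBasisLeft (N := M j) b
  have key : ∀ (x : P ⊗[A] (∀ j, M j)) (j : ι) i,
      ej j (LinearMap.lTensor P (LinearMap.proj j : (∀ j, M j) →ₗ[A] M j) x) i = e x i j := by
    intro x j i
    induction x using TensorProduct.induction_on with
    | zero => simp [e, ej]
    | tmul p m => simp [e, ej, Finsupp.mapRange_apply]
    | add x y hx hy => simp only [map_add, Finsupp.add_apply, Pi.add_apply, hx, hy]
  refine ⟨fun x y h => e.injective (Finsupp.ext fun i => funext fun j => ?_), fun y => ?_⟩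
  · rw [← key, ← key, show LinearMap.lTensor P (LinearMap.proj j : (∀ j, M j) →ₗ[A] M j) x =
      LinearMap.lTensor P (LinearMap.proj j : (∀ j, M j) →ₗ[A] M j) y from congrFun h j]
  · refine ⟨e.symm (Finsupp.equivFunOnFinite.symm fun i j => ej j (y j) i), funext fun j => (ej j).injective ?_⟩
    ext i
    rw [key, LinearEquiv.apply_symm_apply, Finsupp.coe_equivFunOnFinite_symm]

variable (L : CochainComplex (ModuleCat.{u} A) ℤ)

theorem tensorMap_f {M N : ModuleCat.{u} A} (g : M ⟶ N) (q : ℤ) (x : (CohIII.tensorObj L M).X q) :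
    (CohIII.tensorMap L g).f q x = LinearMap.lTensor (L.X q) g.hom x := by
  change (MonoidalCategoryStruct.whiskerLeft (L.X q) g).hom x = _
  rfl

theorem bijective_prod_X (hL : ∀ i, Module.Finite A (L.X i) ∧ Module.Free A (L.X i)) {ι : Type u}
    (M : ι → ModuleCat.{u} A) (q : ℤ) :
    Function.Bijective (fun (x : (CohIII.tensorObj L (ModuleCat.of A (∀ j, M j))).X q) (j : ι) =>
      (CohIII.tensorMap L (ModuleCat.ofHom (LinearMap.proj j : (∀ j, M j) →ₗ[A] M j))).f q x) := by
  haveI := (hL q).1
  haveI := (hL q).2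
  have h := bijective_piTensor (A := A) (L.X q) (fun j => M j)
  have e : (fun (x : (CohIII.tensorObj L (ModuleCat.of A (∀ j, M j))).X q) (j : ι) =>
      (CohIII.tensorMap L (ModuleCat.ofHom (LinearMap.proj j : (∀ j, M j) →ₗ[A] M j))).f q x) =
      fun (x : (L.X q : Type u) ⊗[A] (∀ j, M j)) (j : ι) =>
        LinearMap.lTensor (L.X q) (LinearMap.proj j : (∀ j, M j) →ₗ[A] M j) x :=
    funext fun x => funext fun j => tensorMap_f L _ q x
  rw [e]
  exact h

theorem bijective_homology {ι : Type u} {K : CochainComplex (ModuleCat.{u} A) ℤ}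
    {N : ι → CochainComplex (ModuleCat.{u} A) ℤ} (φ : ∀ j, K ⟶ N j)
    (h : ∀ q, Function.Bijective fun (x : K.X q) (j : ι) => (φ j).f q x) (p : ℤ) :
    Function.Bijective fun (x : K.homology p) (j : ι) => HomologicalComplex.homologyMap (φ j) p x := by
  have hπ : ∀ (C : CochainComplex (ModuleCat.{u} A) ℤ) (x : C.homology p), ∃ z, C.homologyπ p z = x :=
    fun C => (ModuleCat.epi_iff_surjective _).1 inferInstance
  have hi : ∀ (C : CochainComplex (ModuleCat.{u} A) ℤ), Function.Injective (C.iCycles p) :=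
    fun C => (ModuleCat.mono_iff_injective _).1 inferInstance
  have ev : ∀ {X Y Z : ModuleCat.{u} A} (f : X ⟶ Y) (g : Y ⟶ Z) (k : X ⟶ Z), f ≫ g = k → ∀ x : X, g (f x) = k x :=
    fun f g k e x => by subst e; rfl
  have hnat : ∀ (j : ι) (z : K.cycles p),
      HomologicalComplex.homologyMap (φ j) p (K.homologyπ p z) =
        (N j).homologyπ p (HomologicalComplex.cyclesMap (φ j) p z) := fun j z =>
    ev _ _ _ (HomologicalComplex.homologyπ_naturality (φ j) p) z
  have hci : ∀ (j : ι) (z : K.cycles p),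
      (N j).iCycles p (HomologicalComplex.cyclesMap (φ j) p z) = (φ j).f p (K.iCycles p z) := fun j z =>
    ev _ _ _ (HomologicalComplex.cyclesMap_i (φ j) p) z
  have htc : ∀ (C : CochainComplex (ModuleCat.{u} A) ℤ) (w : C.X (p - 1)),
      C.iCycles p (C.toCycles (p - 1) p w) = C.d (p - 1) p w := fun C w =>
    ev _ _ _ (C.toCycles_i (p - 1) p) w
  have hker : ∀ (C : CochainComplex (ModuleCat.{u} A) ℤ) (z : C.cycles p),
      C.homologyπ p z = 0 ↔ ∃ w, C.toCycles (p - 1) p w = z := fun C z => by
    have hE := ShortComplex.exact_of_g_is_cokernel (ShortComplex.mk _ _ (C.toCycles_comp_homologyπ (p - 1) p))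
      (C.homologyIsCokernel (p - 1) p (by simp))
    rw [ShortComplex.moduleCat_exact_iff] at hE
    exact ⟨fun hz => hE z hz, fun ⟨w, hw⟩ => by
      rw [← hw]; exact ev _ _ _ (C.toCycles_comp_homologyπ (p - 1) p) w⟩
  have hcyc : ∀ (C : CochainComplex (ModuleCat.{u} A) ℤ) (y : C.X p), C.d p (p + 1) y = 0 →
      ∃ z, C.iCycles p z = y := fun C y hy => by
    have hE := ShortComplex.exact_of_f_is_kernel (ShortComplex.mk _ _ (C.iCycles_d p (p + 1)))
      (C.cyclesIsKernel p (p + 1) (by simp))
    rw [ShortComplex.moduleCat_exact_iff] at hE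
    exact hE y hy
  refine ⟨fun x y hxy => ?_, fun y => ?_⟩
  · obtain ⟨z, rfl⟩ := hπ K x
    obtain ⟨z', rfl⟩ := hπ K y
    suffices h0 : K.homologyπ p (z - z') = 0 by
      rw [map_sub, sub_eq_zero] at h0; exact h0
    have hw : ∀ j, ∃ w, (N j).toCycles (p - 1) p w = HomologicalComplex.cyclesMap (φ j) p (z - z') := fun j => by
      refine (hker (N j) _).1 ?_
      rw [← hnat, map_sub, map_sub, sub_eq_zero]
      exact congrFun hxy j
    choose w hw using hw
    obtain ⟨W, hW⟩ := (h (p - 1)).2 w
    refine (hker K _).2 ⟨W, hi K ((htc K W).trans ((h p).1 (funext fun j => ?_)))⟩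
    show (φ j).f p (K.d (p - 1) p W) = (φ j).f p (K.iCycles p (z - z'))
    rw [← hci, ← hw j, htc, ← congrFun hW j]
    exact ev _ _ ((φ j).f (p - 1) ≫ (N j).d (p - 1) p) ((φ j).comm (p - 1) p).symm W
  · choose z hz using fun j => hπ (N j) (y j)
    obtain ⟨Y, hY⟩ := (h p).2 fun j => (N j).iCycles p (z j)
    obtain ⟨Z, hZ⟩ := hcyc K Y ((h (p + 1)).1 (funext fun j => by
      show (φ j).f (p + 1) (K.d p (p + 1) Y) = (φ j).f (p + 1) 0
      rw [map_zero, ev _ _ ((φ j).f p ≫ (N j).d p (p + 1)) ((φ j).comm p (p + 1)).symm Y]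
      show (N j).d p (p + 1) ((φ j).f p Y) = 0
      rw [show (φ j).f p Y = (N j).iCycles p (z j) from congrFun hY j]
      exact ev _ _ _ ((N j).iCycles_d p (p + 1)) (z j)))
    refine ⟨K.homologyπ p Z, funext fun j => ?_⟩
    show HomologicalComplex.homologyMap (φ j) p (K.homologyπ p Z) = y j
    rw [hnat, ← hz j]
    refine congrArg _ (hi (N j) ?_)
    rw [hci, hZ]
    exact congrFun hY j

theorem preservesLimitsOfShape_TFun (hL : ∀ i, Module.Finite A (L.X i) ∧ Module.Free A (L.X i)) (p : ℤ)
    (J : Type u) :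
    PreservesLimitsOfShape (Discrete J) (CohIII.TFun L p ⋙ forget₂ (ModuleCat.{u} A) AddCommGrpCat.{u}) := by
  refine ⟨fun {K} => ?_⟩
  suffices h : ∀ f : J → ModuleCat.{u} A, PreservesLimit (Discrete.functor f)
      (CohIII.TFun L p ⋙ forget₂ (ModuleCat.{u} A) AddCommGrpCat.{u}) by
    haveI := h fun j => K.obj ⟨j⟩
    exact preservesLimit_of_iso_diagram _ (Discrete.natIsoFunctor (F := K)).symm
  intro f
  let G := CohIII.TFun L p ⋙ forget₂ (ModuleCat.{u} A) AddCommGrpCat.{u}
  refine preservesLimit_of_preserves_limit_cone (ModuleCat.productConeIsLimit f) ?_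
  let g : J → AddCommGrpCat.{u} := fun j => G.obj (f j)
  let β : Discrete.functor f ⋙ G ≅ Discrete.functor g := Discrete.natIso fun _ => Iso.refl _
  refine (IsLimit.postcomposeHomEquiv β _).1 ?_
  let m : G.obj (ModuleCat.of A (∀ j, f j)) ⟶ AddCommGrpCat.of (∀ j, g j) :=
    AddCommGrpCat.ofHom (AddMonoidHom.mk' (fun x j =>
      G.map (ModuleCat.ofHom (LinearMap.proj j : (∀ j, f j) →ₗ[A] f j)) x)
      fun x y => funext fun j => map_add _ x y)
  have hb : Function.Bijective m :=
    bijective_homology (fun j => CohIII.tensorMap L (ModuleCat.ofHom (LinearMap.proj j : (∀ j, f j) →ₗ[A] f j)))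
      (bijective_prod_X L hL f) p
  haveI : IsIso m := (ConcreteCategory.isIso_iff_bijective m).2 hb
  refine IsLimit.ofIsoLimit (AddCommGrpCat.HasLimit.productLimitCone g).isLimit
    (Cone.ext (asIso m).symm fun j => ?_)
  rw [Iso.symm_hom, asIso_inv, IsIso.eq_inv_comp]
  refine AddCommGrpCat.hom_ext (AddMonoidHom.ext fun x => ?_)
  rfl

end Groth.L15.ProdH
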